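import Groth.Agent.PicF.K248.StalkLim
import Groth.Agent.Ega3B.LimInvK1
import Groth.Agent.Models.H300.ExtPic
import Groth.Agent.Sga7.H732.Reg

/-!
# Invertible modules on the generic fibre extend (regular base, smooth morphism)

* `exists_pull_eq_stalk` : `B → S` qcqs with `B` regular: every class on the fibre over `Spec O_{S,s}` comes from `B`.
* `exists_pull_eq` : node PICGEN of S14325.
-/

set_option autoImplicit false
universe u

open CategoryTheory MonoidalCategory CartesianMonoidalCategory MonObj GrpObj AlgebraicGeometry Limits Opposite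
open Groth.Agent.Grpsch

namespace K424.PicGen

open K248.StalkLim Groth.Agent.Ega3B.LimInv

/-- Classes over the local scheme of a point come from the whole scheme, if it is regular. -/
theorem exists_pull_eq_stalk {S B B' : Scheme.{u}} (h : B ⟶ S) [QuasiCompact h] [QuasiSeparated h]
    [IsLocallyNoetherian B] (hB : ∀ x : B, IsRegularLocalRing (B.presheaf.stalk x)) (s : S)
    (b : B' ⟶ B) (q : B' ⟶ Spec (S.presheaf.stalk s)) (hb : IsPullback b q h (S.fromSpecStalk s))
    (c' : PicGrp.Pic B') : ∃ c : PicGrp.Pic B, PicGrp.pull b c = c' := by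
  obtain ⟨L, hL, rfl⟩ := PicGrp.exists_mk c'
  let t : D S s ⟶ (Functor.const (Nhd S s)).obj S :=
    { app := fun V => V.1.ι
      naturality := fun V W a => by
        refine (Scheme.homOfLE_ι S (U := V.1) (V := W.1) a.le).trans ?_
        exact (Category.comp_id _).symm }
  have ht : ∀ V, (cone S s).π.app V ≫ t.app V = S.fromSpecStalk s := fun V => leg_ι S s V
  have h1 : ∀ (i j : Nhd S s) (f : i ⟶ j), IsAffineHom ((D S s).map f) := fun i j f =>
    isAffineHom_of_isAffine (X := (D S s).obj i) (Y := (D S s).obj j) _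
  have h2 : ∀ j, CompactSpace ((D S s).obj j) := fun j => inferInstance
  have h3 : ∀ j, QuasiSeparatedSpace ((D S s).obj j) := fun j => inferInstance
  obtain ⟨V, w, M, hM, ⟨e⟩⟩ := exists_invertible_bc (cone S s) ht hb (isLimit S s) hL
  have hopen : IsOpenImmersion (t.app V) := inferInstanceAs (IsOpenImmersion V.1.ι)
  have hopen' : IsOpenImmersion (pullback.fst h (t.app V)) := inferInstance
  obtain ⟨c, hc⟩ := Groth.Agent.Models.H300.ExtPic.pull_surjective (pullback.fst h (t.app V)) hB (PicGrp.mk M hM)
  refine ⟨c, ?_⟩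
  have h4 : pullback.lift b (q ≫ (cone S s).π.app V) w ≫ pullback.fst h (t.app V) = b := pullback.lift_fst _ _ _
  rw [← h4, PicGrp.pull_comp, hc, PicGrp.pull_mk, PicGrp.mk_eq_iff]
  exact ⟨e⟩

/-- **Node PICGEN**: invertible modules on the generic fibre extend (regular base, smooth morphism). -/
theorem exists_pull_eq {S : Scheme.{u}} [IsIntegral S] [IsNoetherian S]
    (hS : ∀ x : S, IsRegularLocalRing (S.presheaf.stalk x)) {K : Type u} [Field K]
    (ξ : Spec (CommRingCat.of K) ⟶ S)
    (hξ : ∃ e : S.functionField ≃+* K, ξ = Spec.map (CommRingCat.ofHom e.toRingHom) ≫ S.fromSpecStalk (genericPoint S))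
    {B B' : Scheme.{u}} (h : B ⟶ S) [Smooth h]
    [QuasiCompact h] [IsSeparated h] (b : B' ⟶ B) (h' : B' ⟶ Spec (CommRingCat.of K))
    (hb : IsPullback b h' h ξ) (c' : PicGrp.Pic B') : ∃ c : PicGrp.Pic B, PicGrp.pull b c = c' := by
  obtain ⟨e, rfl⟩ := hξ
  have hB : Models.IsRegularScheme B := Groth.Agent.Sga7.H732.Reg.isRegularScheme_of_smooth h hS
  have hN : IsLocallyNoetherian B := LocallyOfFiniteType.isLocallyNoetherian h
  let ε : S.presheaf.stalk (genericPoint S) ≅ CommRingCat.of K :=
    RingEquiv.toCommRingCatIso (show S.presheaf.stalk (genericPoint S) ≃+* K from e)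
  let ψ : Spec (CommRingCat.of K) ⟶ Spec (S.presheaf.stalk (genericPoint S)) := Spec.map ε.hom
  have hiso : IsIso ψ := inferInstance
  have hb' : IsPullback b (h' ≫ ψ) h (S.fromSpecStalk (genericPoint S)) :=
    IsPullback.of_iso hb (Iso.refl _) (Iso.refl _) (asIso ψ) (Iso.refl _) (by simp) (by simp) (by simp)
      (by simp only [Iso.refl_hom, Category.comp_id, asIso_hom]; rfl)
  exact exists_pull_eq_stalk h hB (genericPoint S) b (h' ≫ ψ) hb' c'

end K424.PicGen
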